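import Mathlib
import Cfsg.Agent.Lib.HD8.Defs
import Cfsg.Agent.Lib.M37.Defs
import Cfsg.Agent.Lib.GL.Basic
import Cfsg.Agent.Lib.Comp.Quasisimple
import Cfsg.Agent.Lib.Core.PCore
import Cfsg.Agent.S0483

/-! Quasisimple groups with Sylow 2-subgroups `D₈`. -/

set_option autoImplicit false

namespace H16D

open Subgroup H69 H36.SW H80.A6C

variable {Y : Type*} [Group Y] [Finite Y]

namespace GWH

theorem arith {q m : ℕ} (hq : Odd q) (hm : Odd m) (e : 2 * (8 * m) = q * (q - 1) * (q + 1)) :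
    q % 16 = 7 ∨ q % 16 = 9 := by
  obtain ⟨k, rfl⟩ := hq
  obtain ⟨l, rfl⟩ := hm
  rw [Nat.add_sub_cancel] at e
  have e' : (2 * k + 1) * k * (k + 1) = 8 * l + 4 := by nlinarith
  have : (2 * k + 1) * k * (k + 1) % 8 = 4 := by omega
  obtain ⟨j, r, hr, rfl⟩ : ∃ j r, r < 8 ∧ k = 8 * j + r := ⟨k / 8, k % 8, Nat.mod_lt _ (by norm_num), by omega⟩
  have k1 : (2 * (8 * j + r) + 1) * (8 * j + r) * (8 * j + r + 1) =
      8 * ((2 * (8 * j + r) + 1) * (j * (8 * j + 2 * r + 1)) + 2 * j * (r * (r + 1))) + (2 * r + 1) * r * (r + 1) := by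
    ring
  rw [k1, Nat.mul_add_mod] at this
  interval_cases r <;> omega

end GWH

theorem gw (hY : Cfsg.IsQuasisimple Y) (hZ : Odd (Nat.card (center Y)))
    (hD : ∀ S : Sylow 2 Y, Nonempty ((S : Subgroup Y) ≃* DihedralGroup 4)) :
    Nonempty (Y ⧸ center Y ≃* alternatingGroup (Fin 7)) ∨
      ∃ (F : Type) (_ : Field F) (_ : Fintype F), (Fintype.card F % 16 = 7 ∨ Fintype.card F % 16 = 9) ∧
        Nonempty (Y ⧸ center Y ≃* H60M.MC.P2F F) := by
  obtain ⟨S⟩ : Nonempty (Sylow 2 Y) := inferInstance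
  have c8 : Nat.card S = 8 := by
    obtain ⟨e⟩ := hD S
    rw [Nat.card_congr e.toEquiv, DihedralGroup.nat_card]
  have cY : Nat.card Y = 8 * (S : Subgroup Y).index := by rw [← c8, card_mul_index]
  have oi : Odd (S : Subgroup Y).index := Nat.odd_iff.2 (Nat.two_dvd_ne_zero.1 S.not_dvd_index)
  have h3 : center Y = Cfsg.oddCore Y := by
    refine le_antisymm (H1.le_oddCore hZ) ?_
    refine (H23.IsQuasisimple.normal_eq_top_or_le_center hY _).resolve_left fun k => ?_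
    have := H1.odd_card_oddCore (G := Y)
    rw [k, card_top, cY, Nat.odd_iff] at this
    omega
  haveI := hY.1
  rcases Cfsg.Agent.S0483.result S 4 (by norm_num) (hD S) with ⟨F, _, _, ho, -, ⟨e⟩⟩ | ⟨⟨e⟩⟩
  · have e' := (QuotientGroup.quotientMulEquivOfEq h3).trans e
    refine Or.inr ⟨F, inferInstance, inferInstance, ?_, ⟨e'⟩⟩
    have c := H10.card_PSL_two (F := F)
    rw [Nat.card_eq_fintype_card (α := F), ← Nat.card_congr e'.toEquiv] at c
    have g2 : Nat.gcd 2 (Fintype.card F - 1) = 2 := Nat.gcd_eq_left (by obtain ⟨k, hk⟩ := ho; omega)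
    have c2 := (center Y).card_eq_card_quotient_mul_card_subgroup
    rw [cY] at c2
    have d : 8 ∣ Nat.card (Y ⧸ center Y) :=
      (Nat.Coprime.pow_left 3 (Nat.coprime_two_left.2 hZ)).dvd_of_dvd_mul_right ⟨_, c2.symm⟩
    obtain ⟨m, hm⟩ := d
    rw [hm, mul_assoc, Nat.mul_right_inj (by norm_num)] at c2
    rw [g2, hm] at c
    exact GWH.arith ho (Nat.odd_mul.1 (c2 ▸ oi)).1 c
  · exact Or.inl ⟨(QuotientGroup.quotientMulEquivOfEq h3).trans e⟩

end H16D
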