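import Mathlib
import Cfsg.Agent.Lib.HD8.Defs
import Cfsg.Agent.Lib.A6C.Inn
import Cfsg.Agent.Lib.A6C.Red

/-! Rank one: the hypotheses in `E⟨t⟩`, an inner conjugate of `t`. -/

set_option autoImplicit false
set_option linter.unusedSectionVars false

namespace H16D

open Subgroup H69 H36.SW H80.A6C

variable {X : Type} [Group X] {G : Type*} [Group G] [Finite G]
variable {J : Subgroup X} {A E : Subgroup G} {α : G → X} {t : G}

theorem K0.HN (h : K0 J E A α t) {g : G} (c : g * t = t * g) : g ∈ 𝐍(A) := h.toSt.CN h.tt h.t1 h.tA c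

theorem K0.eqt (h : K0 J E A α t) {k : G} (c : k * t = t * k) (k2 : k * k = 1) (e : α k = 1) : k = 1 ∨ k = t :=
  (h.rk k ((h.cov.ker k (h.HN c)).1 e) t h.tA k2 h.tt c).imp_right fun e => e.resolve_left h.t1

theorem K0.tnA (h : K0 J E A α t) : t ∉ A := fun m => h.t1 ((P2.of_sq h.tt).eq_one (h.cov.odd' m h.tA))

theorem K0.h1 (h : K0 J E A α t) : (∃ r ∈ 𝐂(A), r * r = t) ∨ K1 J E A α t := by
  refine (em _).imp id fun hn => ⟨h, fun k hk kt k2 => by_contra fun ne => hn ?_⟩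
  have c := h.cov
  obtain ⟨j, r2, r4⟩ := cv_four k2 fun e => ne (h.eqt kt e (c.cen hk))
  have hr := pow_mem hk j
  exact ⟨_, hr, (h.eqt (Commute.mul_left (Commute.pow_left kt j) (Commute.pow_left kt j)) r4
    (c.cen (mul_mem hr hr))).resolve_left r2⟩

theorem K0.rT (h : K0 J E A α t) {T : Subgroup G} (hT : IsSylowIn 2 T (centralizer {t})) {r : G}
    (hr : r ∈ 𝐂(A)) (r2 : r * r = t) : ∃ r ∈ T, r ∈ 𝐂(A) ∧ r * r = t := by
  obtain ⟨k, hk, e⟩ := hT.exists_cj_le (P2.of_mul_self (r2 ▸ P2.of_sq h.tt)).zpowers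
    (zpowers_le.2 (mem_centralizer_singleton_iff.2 (by rw [← r2, mul_assoc])))
  have kt := mem_centralizer_singleton_iff.1 hk
  exact ⟨_, e (cj_mem k (mem_zpowers r)),
    conj_mem_of_mem_normalizer (normalizer_le_normalizer_centralizer A (h.HN kt)) hr,
    by rw [conj_mul, r2, kt, mul_inv_cancel_right]⟩

theorem K0.inner (h : K0 J E A α t) (hJ : JF J) {r : G} (hr : r ∈ 𝐂(A)) (r2 : r * r = t) :
    ∃ g, g * t * g⁻¹ ≠ t ∧ g * t * g⁻¹ * t = t * (g * t * g⁻¹) ∧ α (g * t * g⁻¹) ∈ J := by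
  obtain ⟨g, g1, g2⟩ := h.zs
  by_cases hs : α (g * t * g⁻¹) ∈ J
  · exact ⟨g, g1, g2, hs⟩
  obtain ⟨s, e⟩ : ∃ s, g * t * g⁻¹ = s := ⟨_, rfl⟩
  have s2 : s * s = 1 := e ▸ cjsq h.tt g
  rw [e] at g1 g2 hs
  have sN := h.HN g2
  have N' : ∀ {x}, x * s = s * x → g⁻¹ * x * g ∈ 𝐍(A) := fun {x} c => h.HN (by
    rw [← e] at c
    rw [show g⁻¹ * x * g * t = g⁻¹ * (x * (g * t * g⁻¹)) * g by group, c]; group)
  have fin : ∀ {x} (k : G), k * t * k⁻¹ = x → x ≠ s → x * s = s * x → α (g⁻¹ * x * g) ∈ J →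
      ∃ g, g * t * g⁻¹ ≠ t ∧ g * t * g⁻¹ * t = t * (g * t * g⁻¹) ∧ α (g * t * g⁻¹) ∈ J := by
    rintro x k rfl h1 h2 h3
    have e' : g⁻¹ * k * t * (g⁻¹ * k)⁻¹ = g⁻¹ * (k * t * k⁻¹) * g := by group
    refine ⟨g⁻¹ * k, fun f => h1 ?_, ?_, e' ▸ h3⟩
    · rw [← e, ← congrArg (fun x => g * x * g⁻¹) f]; group
    · rw [← e] at h2
      rw [e', show g⁻¹ * (k * t * k⁻¹) * g * t = g⁻¹ * (k * t * k⁻¹ * (g * t * g⁻¹)) * g by group, h2]; group
  have nM : s ∈ 𝐍(𝐂(A) ⊓ centralizer {t}) := inf_normalizer_le_normalizer_inf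
    ⟨H69.normalizer_le_normalizer_centralizer A sN, le_normalizer (mem_centralizer_singleton_iff.2 g2)⟩
  obtain ⟨P, hP, sP⟩ := exists_isSylowIn_le (P2.of_sq s2).zpowers
    (le_sup_right : _ ≤ 𝐂(A) ⊓ centralizer {t} ⊔ zpowers s)
  have hR := hP.inf_normal le_sup_left (sup_le le_normalizer (zpowers_le.2 nM))
  have sq' : ∀ {x : G}, x * x = 1 → g⁻¹ * x * g * (g⁻¹ * x * g) = 1 := fun {x} f => by
    rw [show g⁻¹ * x * g * (g⁻¹ * x * g) = g⁻¹ * (x * x) * g by group, f]; group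
  by_cases hc : ∀ x ∈ P ⊓ (𝐂(A) ⊓ centralizer {t}), x * s = s * x → x = 1 ∨ x = t
  swap
  · push Not at hc
    obtain ⟨x, hx, c, x1, xt⟩ := hc
    obtain ⟨k, hk⟩ := P2.of_mem hR.isP hx
    obtain ⟨n, n1, n2⟩ := inn_sq k hk fun f => by
      simpa [x1, xt, h.t1] using h.rk x hx.2.1 t h.tA f h.tt (mem_centralizer_singleton_iff.1 hx.2.2)
    have m := mul_mem (pow_mem hx.2 n) (pow_mem hx.2 n)
    have f : x ^ n * x ^ n = t := by
      simpa [n1, h.t1] using h.rk _ m.1 t h.tA n2 h.tt (mem_centralizer_singleton_iff.1 m.2)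
    have w := N' (Commute.pow_left c n)
    refine fin 1 (by group) g1.symm g2.symm ?_
    have e2 : g⁻¹ * t * g = g⁻¹ * x ^ n * g * (g⁻¹ * x ^ n * g) := by rw [← f]; group
    have w2 := mul_mem w w
    have e3 := h.cov.sq w2 (e2 ▸ sq' h.tt)
    rw [h.cov.mul _ w _ w] at e3
    rw [e2, h.cov.mul _ w _ w]
    exact hJ.sq4 _ e3
  have o4 : orderOf r = 2 ^ (1 + 1) := orderOf_eq_prime_pow (by rw [pow_one, pow_two, r2]; exact h.t1)
    (by rw [pow_add, pow_one, pow_mul, pow_two r, r2, pow_two, h.tt])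
  have c4 := hR.card_le (P2.zpowers ⟨_, o4 ▸ pow_orderOf_eq_one r⟩)
    (zpowers_le.2 ⟨hr, mem_centralizer_singleton_iff.2 (by rw [← r2, mul_assoc])⟩)
  rw [Nat.card_zpowers, o4] at c4
  obtain ⟨-, -, ρ, -, hρ⟩ := H25.A7.exists_two_inv hR.isP s2
    (inf_normalizer_le_normalizer_inf ⟨le_normalizer (sP (mem_zpowers s)), nM⟩) hc (by omega)
  obtain ⟨a, ha, a1, a2⟩ := inn_cj h.cov hJ sN s2 hs
  have aN : a * s * a⁻¹ ∈ 𝐍(A) := mul_mem (mul_mem (le_normalizer ha) sN) (inv_mem (le_normalizer ha))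
  have a3 : a * s * a⁻¹ * t * s = s * (a * s * a⁻¹ * t) := by rw [mul_assoc, ← g2, ← mul_assoc, a2, mul_assoc]
  have a4 : a * s * a⁻¹ * t = t * (a * s * a⁻¹) := by
    rw [mul_assoc, h.tA _ (inv_mem ha), ← mul_assoc, mul_assoc a, g2, ← mul_assoc, h.tA a ha]; group
  rcases hJ.out _ _ (h.cov.sq (N' a2) (sq' (cjsq s2 a))) (h.cov.sq (N' g2.symm) (sq' h.tt))
    (h.cov.comm (N' a2) (N' g2.symm) (by
      rw [show g⁻¹ * (a * s * a⁻¹) * g * (g⁻¹ * t * g) = g⁻¹ * (a * s * a⁻¹ * t) * g by group, a4]; group))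
    with k2 | k1 | k3
  · exact fin (a * g) (by rw [← e]; group) (fun f => a1 (congrArg α f)) a2 k2
  · exact fin 1 (by group) g1.symm g2.symm k1
  refine fin (a * ρ * g) ?_ (fun f => a1 ?_) a3 ?_
  · rw [show a * ρ * g * t * (a * ρ * g)⁻¹ = a * (ρ * (g * t * g⁻¹) * ρ⁻¹) * a⁻¹ by group, e, hρ, ← mul_assoc,
      mul_assoc _ t, ← h.tA _ (inv_mem ha), ← mul_assoc]
  · rw [← h.cov.mul_cen aN h.tA, f]
  · rwa [show g⁻¹ * (a * s * a⁻¹ * t) * g = g⁻¹ * (a * s * a⁻¹) * g * (g⁻¹ * t * g) by group,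
      h.cov.mul _ (N' a2) _ (N' g2.symm)]

theorem K0.zt (h : K0 J E A α t) (hJ : JF J) {r z : G} (hr : r ∈ 𝐂(A)) (r2 : r * r = t) (zA : z ∈ A)
    (zz : z * z = 1) (cl : ∀ x ∈ J, x * x = 1 → x ≠ 1 → ∃ j ∈ J, j * x * j⁻¹ = α z) :
    ∃ g, g * t * g⁻¹ = z ∨ g * t * g⁻¹ = t * z := by
  have c := h.cov
  obtain ⟨g, ne, cm, hj⟩ := h.inner hJ hr r2
  obtain ⟨a, aA, k, hk, aa, kk, ea, es⟩ := dec_inner c (h.HN cm) (cjsq h.tt g) hj
  have kt : k * t = t * k := mul_right_cancel (b := a) (by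
    rw [mul_assoc, ← h.tA a aA, ← mul_assoc, ← es, cm, es, mul_assoc])
  have hk' := h.eqt kt kk (c.cen hk)
  obtain ⟨j, jJ, ej⟩ := cl _ (c.mem a aA) (c.sq (le_normalizer aA) aa) fun e => by
    rw [c.eq_one aA (.of_sq aa) e, mul_one] at es
    exact hk'.elim (fun e => cjne h.t1 g (es.trans e)) fun e => ne (es.trans e)
  obtain ⟨b, bA, rfl⟩ := c.onto j jJ
  have e : b * g * t * (b * g)⁻¹ = k * z := by
    rw [← c.conj_eq (le_normalizer bA) aA zA (.of_sq aa) (.of_sq zz) ej, ← mul_assoc, ← mul_assoc,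
      ← hk b bA, mul_assoc b k, ← es]
    group
  exact ⟨b * g, hk'.imp (fun f => by rw [e, f, one_mul]) fun f => by rw [e, f]⟩

theorem k0_of (s : St J A α) (hJ : JF J) (En : E.Normal) (Es : IsSimpleGroup E) (AE : A ≤ E)
    (cE : ∀ g ∈ 𝐂(E), g = 1) (tt : t * t = 1) (t1 : t ≠ 1) (tA : t ∈ 𝐂(A))
    (rk : ∀ a ∈ 𝐂(A), ∀ b ∈ 𝐂(A), a * a = 1 → b * b = 1 → a * b = b * a → a = 1 ∨ b = 1 ∨ a = b) :
    K0 J (E.subgroupOf (E ⊔ zpowers t)) (A.subgroupOf (E ⊔ zpowers t)) (fun x => α x)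
      ⟨t, mem_sup_right (mem_zpowers t)⟩ := by
  have hM : A ≤ E ⊔ zpowers t := AE.trans le_sup_left
  have hC : ∀ g : ↥(E ⊔ zpowers t), g ∈ 𝐂(A.subgroupOf (E ⊔ zpowers t)) ↔ (g : G) ∈ 𝐂(A) := fun g =>
    ⟨fun h a ha => congrArg Subtype.val (h ⟨a, hM ha⟩ ha), fun h a ha => Subtype.ext (h a ha)⟩
  refine ⟨s.sub hM, En.subgroupOf _, (subgroupOfEquivOfLe le_sup_left).isSimpleGroup,
    fun a ha => AE ha, fun g => ?_, fun g hg => Subtype.ext (cE _ fun a ha =>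
      congrArg Subtype.val (hg ⟨a, mem_sup_left ha⟩ ha)), Subtype.ext tt,
    fun e => t1 (congrArg Subtype.val e), (hC _).2 tA, fun a ha b hb a2 b2 c => ?_, ?_⟩
  · obtain ⟨y, hy, w, hw, e⟩ := mem_sup_of_normal_left.1 g.2
    simp only [mem_subgroupOf, coe_mul, ← e]
    rcases (mem_zp tt).1 hw with rfl | rfl
    · exact Or.inl (by rwa [mul_one])
    · exact Or.inr (by rwa [mul_assoc, tt, mul_one])
  · simpa only [Subtype.ext_iff, coe_one] using rk a ((hC _).1 ha) b ((hC _).1 hb) (congrArg Subtype.val a2)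
      (congrArg Subtype.val b2) (congrArg Subtype.val c)
  · by_contra k
    have h : ∀ g ∈ E ⊔ zpowers t, t * (g * t * g⁻¹) = (g * t * g⁻¹) * t → g * t * g⁻¹ = t :=
      fun g hg c => by_contra fun n => k ⟨⟨g, hg⟩, fun e => n (congrArg Subtype.val e), Subtype.ext c.symm⟩
    have ho := H42.BSE.odd_card_Od (E ⊔ zpowers t)
    have hn : (((H42.BSE.Od (E ⊔ zpowers t))).subgroupOf E).Normal := ⟨fun x hx g =>
      conj_mem_of_mem_normalizer (A := H42.BSE.Od (E ⊔ zpowers t))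
        (H45.pcore_norm _ _ (mem_sup_left g.2)) hx⟩
    obtain ⟨j, hj, j2, j1⟩ := hJ.inv
    obtain ⟨a, ha, ea, a2⟩ := s.cov.lifti hj j2
    have a1 : a ≠ 1 := fun e => j1 (by rw [← ea, e, s.cov.one])
    rcases hn.eq_bot_or_eq_top with e | e
    · refine t1 (cE t fun x hx => ?_)
      have h1 := H24.ZD.zstar_comm (mem_sup_right (mem_zpowers t)) tt h (mem_sup_left hx)
      have : (⟨t * x * t⁻¹ * x⁻¹, mul_mem (En.conj_mem x hx t) (inv_mem hx)⟩ : E) ∈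
        (H42.BSE.Od (E ⊔ zpowers t)).subgroupOf E := h1
      rw [e, mem_bot, Subtype.ext_iff] at this
      calc x * t = t * x * t⁻¹ * x⁻¹ * (x * t) := by rw [show t * x * t⁻¹ * x⁻¹ = 1 from this, one_mul]
        _ = t * x := by group
    · have : a ∈ H42.BSE.Od (E ⊔ zpowers t) := subgroupOf_eq_top.1 e (AE ha)
      exact a1 ((P2.of_sq a2).eq_one (ho.of_dvd_nat (orderOf_dvd_natCard _ this)))

end H16D
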