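import Mathlib
import Cfsg.Agent.Lib.HD8.Defs
import Cfsg.Agent.Lib.A6C.Inn
import Cfsg.Agent.Lib.A7S.RB

/-! Rank two: an inner involution. -/

set_option autoImplicit false

namespace H16D

open Subgroup H69 H36.SW H80.A6C

variable {X : Type} [Group X] [Finite X] {G : Type*} [Group G] [Finite G]
variable {J : Subgroup X} {A E : Subgroup G} {α : G → X} {t : G}

namespace RBH

omit [Finite X] in
/-- some conjugate of `C(A)` meets `N(A)` in even order -/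
theorem rb_one (s : St J A α) (hJ : JF J) (hA : Cfsg.IsStandardSubgroup A) (hN : ¬ A.Normal) (En : E.Normal)
    (Es : IsSimpleGroup E) (AE : A ≤ E) (cE : ∀ g ∈ 𝐂(E), g = 1) {p : G} (hp : p ∈ 𝐂(A)) (p2 : p * p = 1)
    (p1 : p ≠ 1) : ∃ g k, g ∉ 𝐍(A) ∧ k * k = 1 ∧ k ≠ 1 ∧ k ∈ 𝐂(A) ∧ g * k * g⁻¹ ∈ 𝐍(A) := by
  by_contra! h
  rcases Cfsg.Agent.S1911.result 𝐂(A) hA.2.1 (fun g hg => by
    rw [← hA.2.2.2] at hg ⊢
    rw [← Nat.not_even_iff_odd, even_iff_two_dvd]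
    intro h2
    obtain ⟨x, hx⟩ := exists_prime_orderOf_dvd_card' 2 h2
    obtain ⟨x, ⟨k, hk, rfl⟩, xN⟩ := x
    have o : orderOf k = 2 := by
      rw [← hx, ← Subgroup.orderOf_coe]
      exact ((MulAut.conj g).orderOf_eq k).symm
    exact h g k hg (by rw [← sq, ← o, pow_orderOf_eq_one]) (by rintro rfl; simp at o) hk xN) with q | q
  · refine hN (normal_iff_top_le_normalizer.2 ?_)
    rw [hA.2.2.2]
    exact normal_iff_top_le_normalizer.1 q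
  · set Y := normalClosure (𝐂(A) : Set G)
    have pX : p ∈ Y := subset_normalClosure hp
    have EX : E ≤ Y := by
      rcases (Subgroup.Normal.subgroupOf (inferInstance : Y.Normal) E).eq_bot_or_eq_top with e | e
      · refine absurd (cE p fun x hx => ?_) p1
        have h1 : x * p * x⁻¹ * p⁻¹ ∈ E := by
          rw [mul_assoc, mul_assoc, ← mul_assoc p]
          exact mul_mem hx (En.conj_mem _ (inv_mem hx) p)
        have h2 : (⟨_, h1⟩ : E) ∈ Y.subgroupOf E :=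
          mul_mem ((inferInstance : Y.Normal).conj_mem _ pX x) (inv_mem pX)
        rw [e, mem_bot] at h2
        have := congrArg Subtype.val h2
        simp only [OneMemClass.coe_one] at this
        rwa [mul_inv_eq_one, mul_inv_eq_iff_eq_mul] at this
      · exact subgroupOf_eq_top.1 e
    obtain ⟨j, hj, j2, j1⟩ := hJ.inv
    obtain ⟨a, ha, ea, a2⟩ := s.cov.lifti hj j2
    have a1 : a ≠ 1 := fun e => j1 (by rw [← ea, e, s.cov.one])
    obtain ⟨g, e⟩ := H25.A7.rb_conj q (a := ⟨p, pX⟩) (b := ⟨a, EX (AE ha)⟩) (Subtype.ext p2)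
      (fun e => p1 (congrArg Subtype.val e)) (Subtype.ext a2) fun e => a1 (congrArg Subtype.val e)
    have e' : (g : G) * p * (g : G)⁻¹ = a := congrArg Subtype.val e
    have gN : (g : G) ∈ 𝐍(A) := by
      by_contra k
      exact h g p k p2 p1 hp (e' ▸ le_normalizer ha)
    have : a ∈ 𝐂(A) := e' ▸ conj_mem_of_mem_normalizer (normalizer_le_normalizer_centralizer A gN) hp
    exact a1 ((P2.of_sq a2).eq_one (s.cov.odd' ha this))

omit [Finite X] in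
/-- an outer involution has a commuting `A`-conjugate -/
theorem rb_dih (c : Cov J A α) (hJ : JF J) {k : G} (kN : k ∈ 𝐍(A)) (k2 : k * k = 1) (hk : α k ∉ J) :
    ∃ b ∈ A, ∃ w ∈ A, w * w = 1 ∧ α w ≠ 1 ∧ w * k = k * w ∧ b * k * b⁻¹ = k * w := by
  obtain ⟨b, hb, h1, h2⟩ := inn_cj c hJ kN k2 hk
  have ki : k⁻¹ = k := inv_eq_of_mul_eq_one_right k2
  have bN : b * k * b⁻¹ ∈ 𝐍(A) := mul_mem (mul_mem (le_normalizer hb) kN) (inv_mem (le_normalizer hb))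
  have u2 := cjsq k2 b
  refine ⟨b, hb, k * (b * k * b⁻¹), ?_, ?_, fun e => h1 ?_, ?_, ?_⟩
  · have : k * (b * k * b⁻¹) = k * b * k⁻¹ * b⁻¹ := by rw [ki]; group
    rw [this]
    exact mul_mem (conj_mem_of_mem_normalizer kN hb) (inv_mem hb)
  · generalize b * k * b⁻¹ = u at h2 u2
    rw [mul_assoc, ← mul_assoc u, h2, mul_assoc, u2, mul_one, k2]
  · rw [c.mul _ kN _ bN] at e
    rw [eq_inv_of_mul_eq_one_right e, inv_eq_of_mul_eq_one_right (c.sq kN k2)]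
  · rw [mul_assoc, h2]
  · rw [← mul_assoc k, k2, one_mul]

omit [Finite X] in
theorem inner (s : St J A α) (hJ : JF J) (hA : Cfsg.IsStandardSubgroup A) (hN : ¬ A.Normal) (En : E.Normal)
    (Es : IsSimpleGroup E) (AE : A ≤ E) (cE : ∀ g ∈ 𝐂(E), g = 1) (h4 : Four 𝐂(A)) :
    ∃ g k, g ∉ 𝐍(A) ∧ k * k = 1 ∧ k ≠ 1 ∧ k ∈ 𝐂(A ^ᶜ g) ∧ k ∈ 𝐍(A) ∧ α k ∈ J := by
  obtain ⟨p0, hp0, q0, hq0, p02, q02, pq, p01, q01, pq1⟩ := h4
  suffices H : ∃ g p, g ∉ 𝐍(A) ∧ p * p = 1 ∧ p ≠ 1 ∧ p ∈ 𝐂(A) ∧ g * p * g⁻¹ ∈ 𝐍(A) ∧ α (g * p * g⁻¹) ∈ J by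
    obtain ⟨g, p, h1, h2, h3, h4, h5, h6⟩ := H
    exact ⟨g, _, h1, cjsq h2 g, cjne h3 g, cj_centralizer A g ▸ cj_mem g h4, h5, h6⟩
  by_contra! H
  obtain ⟨g, p, hg, p2, p1, hp, kN⟩ := rb_one s hJ hA hN En Es AE cE hp0 p02 p01
  obtain ⟨k, hk⟩ : ∃ k, k = g * p * g⁻¹ := ⟨_, rfl⟩
  have ko : α k ∉ J := hk ▸ H g p hg p2 p1 hp kN
  rw [← hk] at kN
  have k2 : k * k = 1 := hk ▸ cjsq p2 g
  have pk : g⁻¹ * k * g⁻¹⁻¹ = p := by rw [hk]; group
  have cn : ∀ x, x * k = k * x → g⁻¹ * x * g⁻¹⁻¹ ∈ 𝐍(A) := fun x hx => s.CN p2 p1 hp (by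
    rw [← pk]
    calc _ = g⁻¹ * (x * k) * g⁻¹⁻¹ := by group
      _ = _ := by rw [hx]; group)
  have kK : k ∈ 𝐍(𝐂(A)) := normalizer_le_normalizer_centralizer A kN
  obtain ⟨S, hS, kS⟩ := exists_isSylowIn_le (L := 𝐂(A) ⊔ zpowers k) (P2.of_sq k2).zpowers le_sup_right
  have hn : 𝐂(A) ⊔ zpowers k ≤ 𝐍(𝐂(A)) := sup_le le_normalizer (zpowers_le.2 kK)
  have hR := hS.inf_normal le_sup_left hn
  have kR : k ∈ 𝐍((S ⊓ 𝐂(A) : Subgroup G)) :=
    zpowers_le.1 (le_normalizer_inf (kS.trans le_normalizer) (zpowers_le.2 kK))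
  have c4 : 2 < Nat.card (S ⊓ 𝐂(A) : Subgroup G) := by
    have cm : ∀ a ∈ zpowers p0, ∀ b ∈ zpowers q0, a * b = b * a := by
      intro a ha b hb
      rcases (mem_zp p02).1 ha with rfl | rfl <;> rcases (mem_zp q02).1 hb with rfl | rfl <;> simp [pq]
    have e := card_sup_comm cm fun a ha hb => by
      rcases (mem_zp p02).1 ha with rfl | rfl
      · rfl
      · exact absurd (((mem_zp q02).1 hb).resolve_left p01) pq1
    rw [card_zp p02 p01, card_zp q02 q01] at e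
    have := hR.card_le (R := zpowers p0 ⊔ zpowers q0) (IsPGroup.of_card (n := 2) (by rw [e]; norm_num))
      (sup_le (zpowers_le.2 hp0) (zpowers_le.2 hq0))
    omega
  have od : ∀ r ∈ S ⊓ 𝐂(A), r * k = k * r → r ≠ 1 → α (g⁻¹ * r * g⁻¹⁻¹) ∉ J := by
    intro r hr c r1 e
    obtain ⟨n, h1, h2⟩ := H25.A7.rb_inv (P2.of_mem hR.isP hr) r1
    refine H g⁻¹ (r ^ n) (fun h => hg (inv_mem_iff.1 h)) h1 h2 (pow_mem hr.2 n)
      (cn _ ((show Commute r k from c).pow_left n)) ?_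
    rw [← conj_pow, s.cov.pow (cn r c)]
    exact pow_mem e n
  have ev : ∀ x y, x * k = k * x → y * k = k * y → x * x = 1 → y * y = 1 → x * y = y * x →
      α (g⁻¹ * x * g⁻¹⁻¹) ∉ J → α (g⁻¹ * y * g⁻¹⁻¹) ∉ J → α (g⁻¹ * (x * y) * g⁻¹⁻¹) ∈ J := by
    intro x y hx hy x2 y2 xy h1 h2
    rw [← conj_mul, s.cov.mul _ (cn x hx) _ (cn y hy)]
    exact ((hJ.out _ _ (s.cov.sq (cn x hx) (cjsq x2 _)) (s.cov.sq (cn y hy) (cjsq y2 _))
      (s.cov.comm (cn x hx) (cn y hy) (by rw [conj_mul, conj_mul, xy]))).resolve_left h1).resolve_left h2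
  have sq1 : ∀ x ∈ S ⊓ 𝐂(A), x * k = k * x → x * x = 1 := by
    intro x hx cx
    by_contra e
    obtain ⟨i, hi⟩ := P2.of_mem hR.isP hx
    obtain ⟨n, n1, n2⟩ := inn_sq i hi e
    have cx' : x ^ n * k = k * x ^ n := (show Commute x k from cx).pow_left n
    have w := cn _ cx'
    refine od _ (mul_mem (pow_mem hx n) (pow_mem hx n))
      ((show Commute (x ^ n) k from cx').mul_left cx') n1 ?_
    have e3 := s.cov.sq (mul_mem w w) (by rw [conj_mul]; exact cjsq n2 _)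
    rw [s.cov.mul _ w _ w] at e3
    rw [← conj_mul, s.cov.mul _ w _ w]
    exact hJ.sq4 _ e3
  have one : ∀ x ∈ S ⊓ 𝐂(A), ∀ y ∈ S ⊓ 𝐂(A), x * k = k * x → y * k = k * y → x ≠ 1 → y ≠ 1 → x * y = 1 := by
    intro x hx y hy cx cy x1 y1
    by_contra e
    have cxy : x * y * k = k * (x * y) := (show Commute x k from cx).mul_left cy
    have x2 := sq1 x hx cx
    have y2 := sq1 y hy cy
    have xy : x * y = y * x := by
      rw [eq_inv_of_mul_eq_one_left (sq1 _ (mul_mem hx hy) cxy), mul_inv_rev,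
        inv_eq_of_mul_eq_one_left x2, inv_eq_of_mul_eq_one_left y2]
    exact od _ (mul_mem hx hy) cxy e (ev x y cx cy x2 y2 xy (od x hx cx x1) (od y hy cy y1))
  obtain ⟨c, hc, ck⟩ : ∃ c, (∀ r ∈ S ⊓ 𝐂(A), r * k = k * r → r = 1 ∨ r = c) ∧ c * k = k * c := by
    by_cases e : ∃ c ∈ S ⊓ 𝐂(A), c * k = k * c ∧ c ≠ 1
    · obtain ⟨c, hc, ck, c1⟩ := e
      refine ⟨c, fun r hr rk => or_iff_not_imp_left.2 fun r1 => ?_, ck⟩
      exact mul_right_cancel ((one r hr c hc rk ck r1 c1).trans (one c hc c hc ck ck c1 c1).symm)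
    · push Not at e
      exact ⟨1, fun r hr rk => Or.inl (e r hr rk), by simp⟩
  obtain ⟨c1, cR, r, hr, er⟩ := H25.A7.exists_two_inv hR.isP k2 kR hc c4
  have c2 := one c cR c cR ck ck c1 c1
  obtain ⟨b, hb, w, hw, w2, w1, wk, eb⟩ := rb_dih s.cov hJ kN k2 ko
  have fin : ∀ y u, y * k * y⁻¹ = k * u → u * k = k * u → u * u = 1 → u ∈ 𝐍(A) → α u = α w →
      α (g⁻¹ * (k * u) * g⁻¹⁻¹) ∉ J := by
    intro y u ey uk u2 uN au
    have e : g⁻¹ * y * g * p * (g⁻¹ * y * g)⁻¹ = g⁻¹ * (k * u) * g⁻¹⁻¹ := by rw [← ey, hk]; group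
    have cu : k * u * k = k * (k * u) := by rw [mul_assoc, uk]
    by_cases hy : g⁻¹ * y * g ∈ 𝐍(A)
    · exfalso
      have h1 : g⁻¹ * u * g⁻¹⁻¹ ∈ 𝐂(A) := by
        have := mul_mem (inv_mem hp)
          (e ▸ conj_mem_of_mem_normalizer (normalizer_le_normalizer_centralizer A hy) hp)
        rwa [← pk, ← conj_mul, inv_mul_cancel_left] at this
      have h2 : g * (g⁻¹ * u * g⁻¹⁻¹) * g⁻¹ = u := by group
      refine H g _ hg (cjsq u2 _) (cjne (fun h => w1 (by rw [← au, h, s.cov.one])) _) h1 (h2.symm ▸ uN) ?_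
      rw [h2, au]
      exact s.cov.mem w hw
    · rw [← e]
      exact H _ p hy p2 p1 hp (e ▸ cn _ cu)
  have wc : w * c = c * w := cR.2 w hw
  have f1 := fin b w eb wk w2 (le_normalizer hw) rfl
  have f2 := fin (b * r) (w * c) (by
      calc _ = b * (r * k * r⁻¹) * b⁻¹ := by group
        _ = b * k * b⁻¹ * (b * c * b⁻¹) := by rw [er]; group
        _ = _ := by rw [eb, cR.2 b hb]; group)
    ((show Commute w k from wk).mul_left ck)
    (by rw [mul_assoc, ← mul_assoc c, ← wc, mul_assoc, c2, mul_one, w2])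
    (mul_mem (le_normalizer hw) (centralizer_le_normalizer _ cR.2)) (s.cov.mul_cen (le_normalizer hw) cR.2)
  rw [← mul_assoc k] at f2
  exact f2 (ev _ c (by rw [mul_assoc, wk]) ck
    (by rw [mul_assoc, ← mul_assoc w, wk, mul_assoc, w2, mul_one, k2]) c2
    (by rw [mul_assoc, wc, ← mul_assoc, ← ck, mul_assoc]) f1 (od c cR ck c1))

end RBH

theorem inner2 (s : St J A α) (hJ : JF J) (hA : Cfsg.IsStandardSubgroup A) (hN : ¬ A.Normal) (En : E.Normal)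
    (Es : IsSimpleGroup E) (AE : A ≤ E) (cE : ∀ g ∈ 𝐂(E), g = 1) (h4 : Four 𝐂(A)) :
    ∃ g, g ∉ 𝐍(A) ∧ ∃ k, k ≠ 1 ∧ k ∈ 𝐂(A ^ᶜ g) ∧ In A k := by
  obtain ⟨g, k, hg, k2, k1, hk, kN, kJ⟩ := RBH.inner s hJ hA hN En Es AE cE h4
  obtain ⟨a, ha, c, hc, a2, c2, -, e⟩ := dec_inner s.cov kN k2 kJ
  exact ⟨g, hg, k, k1, hk, a, ha, c, hc, a2, c2, e⟩

end H16D
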