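import Mathlib
import Cfsg.Agent.Lib.HD8.K
import Cfsg.Agent.Lib.HD8.D8
import Cfsg.Agent.Lib.Comp.FStar
import Cfsg.Agent.Lib.Core.PCore

/-! Rank one: the centraliser modulo its core. -/

set_option autoImplicit false
set_option linter.unusedSectionVars false

namespace H16D

open Subgroup H69 H36.SW H80.A6C

variable {X : Type} [Group X] [Finite X] {G : Type*} [Group G] [Finite G]
variable {J : Subgroup X} {A E : Subgroup G} {α : G → X} {t : G}

namespace TRH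

omit [Finite X] in
theorem core (m : Mo J) (φ : G →* X) [A.Normal] (mem : ∀ a ∈ A, φ a ∈ J) (onto : ∀ j ∈ J, ∃ a ∈ A, φ a = j)
    {x : G} (hx : x ∈ Cfsg.oddCore G) : φ x = 1 := by
  have odd : ∀ y ∈ Cfsg.oddCore G, Odd (orderOf y) := fun y hy =>
    Nat.coprime_two_right.1 (H1.coprime_orderOf_of_mem_pPrimeCore (p := 2) hy)
  have nO : (Cfsg.oddCore G).Normal := inferInstance
  have n : (((Cfsg.oddCore G ⊓ A).map φ).subgroupOf J).Normal := ⟨fun y hy j => by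
    obtain ⟨u, hu, e⟩ := mem_map.1 (mem_subgroupOf.1 hy)
    obtain ⟨a, -, ea⟩ := onto j j.2
    refine mem_subgroupOf.2 ⟨a * u * a⁻¹, ⟨nO.conj_mem u hu.1 a, ‹A.Normal›.conj_mem u hu.2 a⟩, ?_⟩
    rw [map_mul, map_mul, map_inv, e, ea]; rfl⟩
  have := m.sJ
  rcases n.eq_bot_or_eq_top with e | e
  · refine m.cJ _ fun j hj => ?_
    obtain ⟨a, ha, rfl⟩ := onto j hj
    have m1 : x * a * x⁻¹ * a⁻¹ ∈ A := mul_mem (‹A.Normal›.conj_mem a ha x) (inv_mem ha)
    have m2 : x * a * x⁻¹ * a⁻¹ ∈ Cfsg.oddCore G := by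
      simpa only [mul_assoc] using mul_mem hx (nO.conj_mem _ (inv_mem hx) a)
    have : (⟨_, mem _ m1⟩ : J) ∈ ((Cfsg.oddCore G ⊓ A).map φ).subgroupOf J := ⟨_, ⟨m2, m1⟩, rfl⟩
    rw [e, mem_bot, Subtype.ext_iff] at this
    have e2 : φ (x * a * x⁻¹ * a⁻¹) = 1 := this
    rwa [map_mul, map_mul, map_mul, map_inv, map_inv, mul_inv_eq_one, mul_inv_eq_iff_eq_mul] at e2
  · obtain ⟨z, a, b, y, w, q⟩ := m.fr
    have : (⟨a, q.aA⟩ : J) ∈ ((Cfsg.oddCore G ⊓ A).map φ).subgroupOf J := e ▸ mem_top _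
    obtain ⟨u, hu, e⟩ := mem_map.1 (mem_subgroupOf.1 this)
    refine (q.toDh.a1 ((P2.of_sq q.aa).eq_one ((odd u hu.1).of_dvd_nat ?_))).elim
    exact (show φ u = a from e) ▸ orderOf_map_dvd φ u

theorem odd_card {Θ : Subgroup G} (h : ∀ o ∈ Θ, Odd (orderOf o)) : Odd (Nat.card Θ) := by
  refine Nat.not_even_iff_odd.1 fun e => ?_
  obtain ⟨x, hx⟩ := exists_prime_orderOf_dvd_card' (G := Θ) 2 e.two_dvd
  have := h x x.2
  rw [Subgroup.orderOf_coe, hx] at this
  exact absurd this (by decide)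

omit [Finite X] in
theorem main (m : Mo J) (φ : G →* X) [A.Normal] (mem : ∀ a ∈ A, φ a ∈ J) (onto : ∀ j ∈ J, ∃ a ∈ A, φ a = j)
    (odd : ∀ a ∈ A, φ a = 1 → Odd (orderOf a)) (tt : t * t = 1) (cen : ∀ g, g * t = t * g) (tk : φ t = 1)
    (k2 : ∀ k, φ k = 1 → P2 k → k = 1 ∨ k = t) :
    Nonempty (Cfsg.layer (G ⧸ Cfsg.oddCore G) ≃* J) ∧
      centralizer (Cfsg.layer (G ⧸ Cfsg.oddCore G) : Set (G ⧸ Cfsg.oddCore G)) = zpowers (QuotientGroup.mk t) := by
  obtain ⟨O, hO, dec⟩ := H25.A7.exists_odd (W := zpowers t) (C := φ.ker)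
    ⟨zpowers_le.2 tk, (P2.of_sq tt).zpowers, fun R h1 h2 h3 => le_antisymm
      (fun x hx => (mem_zp tt).2 (k2 x (h2 hx) (P2.of_mem h3 hx))) h1⟩ (zpowers_le.2 fun g _ => cen g)
  have nO : O.Normal := ⟨fun o ho g => (hO _).2 ⟨φ.normal_ker.conj_mem o ((hO o).1 ho).1 g, by
    rw [H9.orderOf_conj]; exact ((hO o).1 ho).2⟩⟩
  have OC : O ≤ Cfsg.oddCore G := H1.le_oddCore (odd_card fun o ho => ((hO o).1 ho).2)
  let π := QuotientGroup.mk' (Cfsg.oddCore G)
  have πO : ∀ o ∈ O, π o = 1 := fun o ho => (QuotientGroup.eq_one_iff o).2 (OC ho)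
  let ψ : G ⧸ Cfsg.oddCore G →* X := QuotientGroup.lift _ φ fun x hx => core m φ mem onto hx
  have hψ : ∀ x, ψ (π x) = φ x := fun _ => rfl
  have nB : (A.map π).Normal := Normal.map ‹_› π (QuotientGroup.mk'_surjective _)
  let f : A.map π →* J := (ψ.comp (A.map π).subtype).codRestrict J (by
    rintro ⟨_, a, ha, rfl⟩; exact mem a ha)
  have e : A.map π ≃* J := MulEquiv.ofBijective f ⟨(injective_iff_map_eq_one _).2 (by
    rintro ⟨_, a, ha, rfl⟩ h
    have h' : φ a = 1 := congrArg Subtype.val h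
    exact Subtype.ext (πO a ((hO a).2 ⟨h', odd a ha h'⟩))), fun j =>
      let ⟨a, ha, ea⟩ := onto j j.2; ⟨⟨π a, a, ha, rfl⟩, Subtype.ext ea⟩⟩
  have hC : centralizer (A.map π : Set (G ⧸ Cfsg.oddCore G)) = zpowers (π t) := by
    refine le_antisymm (fun y hy => ?_) (zpowers_le.2 ?_)
    · obtain ⟨x, rfl⟩ := QuotientGroup.mk'_surjective _ y
      have h1 : φ x = 1 := m.cJ _ fun j hj => by
        obtain ⟨a, ha, rfl⟩ := onto j hj
        have := congrArg ψ (hy _ (mem_map_of_mem π ha))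
        rw [map_mul, map_mul] at this
        exact this.symm
      obtain ⟨w, hw, o, ho, rfl⟩ := dec x h1
      change π (w * o) ∈ _
      rw [map_mul, πO o ho, mul_one, ← MonoidHom.map_zpowers]
      exact mem_map_of_mem π hw
    · rintro _ ⟨a, -, rfl⟩
      rw [← map_mul, ← map_mul, cen]
  have := m.sJ
  have qJ : Cfsg.IsQuasisimple J := H23.isQuasisimple_of_isSimpleGroup fun k => by
    obtain ⟨z, a, b, y, w, q⟩ := m.fr
    exact q.toDh.nab (congrArg Subtype.val (k.is_comm.comm (⟨a, q.aA⟩ : J) ⟨b, q.bA⟩))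
  have eL : Cfsg.layer (G ⧸ Cfsg.oddCore G) = A.map π := le_antisymm
    (H23.layer_le_iff.2 fun L hL => (H23.IsComponent.le_or_commutator_eq_bot hL nB.isSubnormal).elim id fun h =>
      (H23.IsComponent.not_le_of_isSolvable (H := zpowers (π t)) hL inferInstance
        (hC ▸ commutator_eq_bot_iff_le_centralizer.1 h)).elim)
    (H23.IsComponent.le_layer ⟨nB.isSubnormal, H23.IsQuasisimple.of_mulEquiv e.symm qJ⟩)
  rw [eL]
  exact ⟨⟨e⟩, hC⟩

end TRH

theorem K1.tr (h : K1 J E A α t) (m : Mo J) (tc : centralizer ({t} : Set G)) (htc : (tc : G) = t) :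
    Nonempty (Cfsg.layer (centralizer ({t} : Set G) ⧸ Cfsg.oddCore (centralizer ({t} : Set G))) ≃* J) ∧
      centralizer (Cfsg.layer (centralizer ({t} : Set G) ⧸ Cfsg.oddCore (centralizer ({t} : Set G))) :
        Set (centralizer ({t} : Set G) ⧸ Cfsg.oddCore (centralizer ({t} : Set G)))) =
        zpowers (QuotientGroup.mk tc) := by
  have CN : centralizer ({t} : Set G) ≤ 𝐍(A) := fun g hg => h.toK0.HN (mem_centralizer_singleton_iff.1 hg)
  have n : (A.subgroupOf (centralizer ({t} : Set G))).Normal :=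
    ⟨fun a ha g => conj_mem_of_mem_normalizer (A := A) (CN g.2) ha⟩
  refine TRH.main (A := A.subgroupOf (centralizer ({t} : Set G))) m (h.cov.hom.comp (inclusion CN))
    (fun a ha => h.cov.mem a ha) (fun j hj => ?_) (fun a ha e => ?_) (Subtype.ext (by simp [htc, h.tt]))
    (fun g => Subtype.ext ?_) ?_ fun k e p => ?_
  · obtain ⟨a, ha, e⟩ := h.cov.onto j hj
    exact ⟨⟨a, mem_centralizer_singleton_iff.2 (h.tA a ha)⟩, ha, e⟩
  · rw [← Subgroup.orderOf_coe]; exact h.cov.odd a ha e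
  · rw [coe_mul, coe_mul, htc]; exact mem_centralizer_singleton_iff.1 g.2
  · change α tc = 1
    rw [htc]; exact h.cov.cen h.tA
  · obtain ⟨j, hj⟩ := p
    exact (h.k2 k ((h.cov.ker k (CN k.2)).1 e) (mem_centralizer_singleton_iff.1 k.2)
      ⟨j, congrArg Subtype.val hj⟩).imp (fun e => Subtype.ext e) fun e => Subtype.ext (e.trans htc.symm)

end H16D
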